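import Cfsg.Agent.H327.RG.TwFour

/-!
# Root elements of `D₄`, the graph automorphism of order 3 and a commutator (helper164, S3509)

* `AA`, `BB` : products over the two orbits of short relative roots; `gr_AA`, `gr_BB`, `phi_AA`, `phi_BB`;
* `comm_AB` : their commutator is a highest root element.
-/

set_option autoImplicit false
set_option linter.unusedSectionVars false
set_option maxHeartbeats 400000

namespace Cfsg.Agent.H164.TD

open CoxeterSystem Subgroup Cfsg Cfsg.Lie Cfsg.Lie.ChevalleyDatum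
open Cfsg.Agent.ChevalleyStructure Cfsg.Agent.ChevalleyStructure.Elts Cfsg.Agent.ChevalleyStructure.CoxeterGeom
  Cfsg.Agent.ChevalleyStructure.CoxeterGeomTypes Cfsg.Agent.ChevalleyStructure.NPerm
open Cfsg.Agent.Nodes.RGDChev Cfsg.Agent.KFacts.RgdChevCoord
open Cfsg.Agent.BpExc.TowChev Cfsg.Agent.BpExc.FamUntw Cfsg.Agent.BpExc.LangFr Cfsg.Agent.BpExc.FamField
  Cfsg.Agent.BpExc.RowsUntw
open Cfsg.Agent.ChevalleyStructure.GraphSymm (symmD4a)
open Cfsg.Agent.H522.FamTw.Frame (sig4 sig4_pow sig4_congr isFrob_sig4 fr_sig4)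
open Cfsg.Agent.H28.FamFour (em em_injective coe_em sig_em)
open Cfsg.Agent.BpExc.FamTw.Gr
open Cfsg.Agent.GpExc.Field (glMap emb coe_emb glMap_xG emb_injective coe_glMap glMap_injective)
open Cfsg.Agent.H469.Exc Cfsg.Agent.H469.Exc.SigFr
open Cfsg.Agent.H28.GenF
open Cfsg.Agent.H46.Gen
open Cfsg.Agent.H106.RC
open Cfsg.Agent.H327.RG
open scoped commutatorElement

/-! ### commutators in class 2 -/

section grp

variable {G : Type*} [Group G]

theorem com_one {x y : G} (h : x * y = y * x) : ⁅x, y⁆ = 1 := commutatorElement_eq_one_iff_mul_comm.2 h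

theorem com_left {x y z c d : G} (h1 : ⁅y, z⁆ = c) (h2 : ⁅x, z⁆ = d) (h : x * c = c * x) : ⁅x * y, z⁆ = c * d := by
  have e : ⁅x * y, z⁆ = (x * ⁅y, z⁆ * x⁻¹) * ⁅x, z⁆ := by
    rw [commutatorElement_def, commutatorElement_def, commutatorElement_def]; group
  rw [e, h1, h2, h]; group

theorem com_right {x y z c d : G} (h1 : ⁅x, y⁆ = c) (h2 : ⁅x, z⁆ = d) (h : y * d = d * y) : ⁅x, y * z⁆ = c * d := by
  have e : ⁅x, y * z⁆ = ⁅x, y⁆ * (y * ⁅x, z⁆ * y⁻¹) := by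
    rw [commutatorElement_def, commutatorElement_def, commutatorElement_def]; group
  rw [e, h1, h2, h]; group

theorem com3 {P₁ P₂ P₃ Q₁ Q₂ Q₃ z₁ z₂ z₃ : G} (h12 : P₁ * Q₂ = Q₂ * P₁) (h13 : P₁ * Q₃ = Q₃ * P₁)
    (h21 : P₂ * Q₁ = Q₁ * P₂) (h23 : P₂ * Q₃ = Q₃ * P₂) (h31 : P₃ * Q₁ = Q₁ * P₃) (h32 : P₃ * Q₂ = Q₂ * P₃)
    (e1 : ⁅P₁, Q₁⁆ = z₁) (e2 : ⁅P₂, Q₂⁆ = z₂) (e3 : ⁅P₃, Q₃⁆ = z₃)
    (k1 : P₁ * (z₃ * z₂) = z₃ * z₂ * P₁) (k2 : P₂ * z₃ = z₃ * P₂) (l1 : Q₁ * z₂ = z₂ * Q₁) (l2 : Q₁ * z₃ = z₃ * Q₁)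
    (l3 : Q₂ * z₃ = z₃ * Q₂) : ⁅P₁ * P₂ * P₃, Q₁ * Q₂ * Q₃⁆ = z₃ * z₂ * z₁ := by
  have a1 : ⁅P₁, Q₁ * Q₂ * Q₃⁆ = z₁ := by
    have h := com_right (com_right e1 (com_one h12) (by group)) (com_one h13) (y := Q₁ * Q₂) (by group)
    rwa [mul_one, mul_one] at h
  have a2 : ⁅P₂, Q₁ * Q₂ * Q₃⁆ = z₂ := by
    have h := com_right (com_right (com_one h21) e2 l1) (com_one h23) (y := Q₁ * Q₂) (by group)
    rwa [mul_one, one_mul] at h
  have a3 : ⁅P₃, Q₁ * Q₂ * Q₃⁆ = z₃ := by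
    have h := com_right (com_right (com_one h31) (com_one h32) (by group)) e3 (y := Q₁ * Q₂)
      (by rw [mul_assoc, l3, ← mul_assoc, l2, mul_assoc])
    rwa [one_mul, one_mul] at h
  have b1 := com_left a2 a1 (x := P₁) (y := P₂)
  have e : P₁ * P₂ * P₃ = P₁ * (P₂ * P₃) := mul_assoc _ _ _
  rw [e]
  have b2 := com_left a3 a2 k2
  exact com_left b2 a1 k1

end grp

section els

variable {k : Type} [Field k]

local notation "hp4" => Cfsg.Agent.Nodes.RGDTwD4.hp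

/-- root elements -/
noncomputable abbrev X4 (s : ℕ) (t : k) : ↥(chevD4.group k) := xc hp4 (vec chevD4 4 s) t

theorem X4_add (s : ℕ) (a b : k) : X4 s (a + b) = X4 s a * X4 s b := xc_add hp4 _ a b
theorem X4_zero (s : ℕ) : X4 s (0 : k) = 1 := xc_zero hp4 _
theorem X4_neg (s : ℕ) (a : k) : X4 s (-a) = (X4 s a)⁻¹ := xc_neg hp4 _ a
theorem X4_inj {s : ℕ} (hs : s < 24) {a b : k} (h : X4 s a = X4 s b) : a = b := xc_inj hp4 hs h

theorem cm4 {r s : ℕ} (h : r < 24 ∧ s < 24 ∧ s ≠ r ∧ s ≠ chevD4.neg r ∧ chevD4.commTerms r s = []) (t u : k) :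
    X4 r t * X4 s u = X4 s u * X4 r t := by
  obtain ⟨hr, hs, h1, h2, h3⟩ := h
  refine (Subtype.ext ?_).symm
  rw [Subgroup.coe_mul, Subgroup.coe_mul, coe_xc hp4 hr, coe_xc hp4 hs, comm_word hp4 hr hs h1 h2,
    word_nil' hp4 h3, mul_one]

theorem gr4 {s s' : ℕ} {e : ℤ} (hs : s < 24) (h : (symmD4a.σ ⟨s, hs⟩).val = s' ∧ symmD4a.ε ⟨s, hs⟩ = e) (t : k) :
    gr (L := k) hD4 symmD4a (X4 s t) = X4 s' ((e : k) * t) := by
  have h3 : ∀ s < 24, ∀ t : k, X4 s t = xg hD4 s t := fun s hs t => Subtype.ext (coe_xc hp4 hs _)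
  have hs' : s' < 24 := by rw [← h.1]; exact (symmD4a.σ ⟨s, hs⟩).2
  rw [h3 s hs, h3 s' hs', gr_xg hD4 symmD4a ⟨s, hs⟩, h.1, h.2]

theorem gr19 (t : k) : gr (L := k) hD4 symmD4a (X4 19 t) = X4 16 (-t) := by
  rw [gr4 (e := -1) (s' := 16) (by norm_num) (by decide +kernel)]; push_cast; rw [neg_one_mul]
theorem gr16 (t : k) : gr (L := k) hD4 symmD4a (X4 16 t) = X4 15 t := by
  rw [gr4 (e := 1) (s' := 15) (by norm_num) (by decide +kernel)]; push_cast; rw [one_mul]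
theorem gr15 (t : k) : gr (L := k) hD4 symmD4a (X4 15 t) = X4 19 (-t) := by
  rw [gr4 (e := -1) (s' := 19) (by norm_num) (by decide +kernel)]; push_cast; rw [neg_one_mul]
theorem gr21 (t : k) : gr (L := k) hD4 symmD4a (X4 21 t) = X4 17 (-t) := by
  rw [gr4 (e := -1) (s' := 17) (by norm_num) (by decide +kernel)]; push_cast; rw [neg_one_mul]
theorem gr17 (t : k) : gr (L := k) hD4 symmD4a (X4 17 t) = X4 20 (-t) := by
  rw [gr4 (e := -1) (s' := 20) (by norm_num) (by decide +kernel)]; push_cast; rw [neg_one_mul]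
theorem gr20 (t : k) : gr (L := k) hD4 symmD4a (X4 20 t) = X4 21 t := by
  rw [gr4 (e := 1) (s' := 21) (by norm_num) (by decide +kernel)]; push_cast; rw [one_mul]
theorem gr14 (t : k) : gr (L := k) hD4 symmD4a (X4 14 t) = X4 14 t := by
  rw [gr4 (e := 1) (s' := 14) (by norm_num) (by decide +kernel)]; push_cast; rw [one_mul]
theorem gr22 (t : k) : gr (L := k) hD4 symmD4a (X4 22 t) = X4 22 t := by
  rw [gr4 (e := 1) (s' := 22) (by norm_num) (by decide +kernel)]; push_cast; rw [one_mul]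
theorem gr23 (t : k) : gr (L := k) hD4 symmD4a (X4 23 t) = X4 23 t := by
  rw [gr4 (e := 1) (s' := 23) (by norm_num) (by decide +kernel)]; push_cast; rw [one_mul]

/-- the first orbit -/
noncomputable def AA (x y z : k) : ↥(chevD4.group k) := X4 19 x * X4 16 y * X4 15 z

/-- the second orbit -/
noncomputable def BB (x y z : k) : ↥(chevD4.group k) := X4 21 x * X4 17 y * X4 20 z

theorem gr_AA (x y z : k) : gr (L := k) hD4 symmD4a (AA x y z) = AA (-z) (-x) y := by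
  unfold AA
  rw [map_mul, map_mul, gr19, gr16, gr15, cm4 (r := 16) (s := 15) (by decide +kernel), mul_assoc,
    cm4 (r := 16) (s := 19) (by decide +kernel), ← mul_assoc, cm4 (r := 15) (s := 19) (by decide +kernel), mul_assoc,
    cm4 (r := 15) (s := 16) (by decide +kernel), ← mul_assoc]

theorem gr_BB (x y z : k) : gr (L := k) hD4 symmD4a (BB x y z) = BB z (-x) (-y) := by
  unfold BB
  rw [map_mul, map_mul, gr21, gr17, gr20, mul_assoc, cm4 (r := 20) (s := 21) (by decide +kernel), ← mul_assoc,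
    cm4 (r := 17) (s := 21) (by decide +kernel)]

theorem AA_mul (x y z x' y' z' : k) : AA x y z * AA x' y' z' = AA (x + x') (y + y') (z + z') := by
  unfold AA
  rw [X4_add, X4_add, X4_add]
  have e1 : X4 15 z * X4 19 x' = X4 19 x' * X4 15 z := cm4 (by decide +kernel) _ _
  have e2 : X4 16 y * X4 19 x' = X4 19 x' * X4 16 y := cm4 (by decide +kernel) _ _
  have e3 : X4 15 z * X4 16 y' = X4 16 y' * X4 15 z := cm4 (by decide +kernel) _ _
  calc X4 19 x * X4 16 y * X4 15 z * (X4 19 x' * X4 16 y' * X4 15 z')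
      = X4 19 x * X4 16 y * (X4 15 z * X4 19 x') * X4 16 y' * X4 15 z' := by group
    _ = X4 19 x * (X4 16 y * X4 19 x') * (X4 15 z * X4 16 y') * X4 15 z' := by rw [e1]; group
    _ = X4 19 x * X4 19 x' * X4 16 y * X4 16 y' * X4 15 z * X4 15 z' := by rw [e2, e3]; group
    _ = _ := by group

theorem AA_zero : AA (0 : k) 0 0 = 1 := by
  unfold AA
  rw [X4_zero, X4_zero, X4_zero, mul_one, mul_one]

theorem AA_inv (x y z : k) : (AA x y z)⁻¹ = AA (-x) (-y) (-z) := by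
  rw [inv_eq_iff_mul_eq_one, AA_mul, add_neg_cancel, add_neg_cancel, add_neg_cancel, AA_zero]

theorem pr1917 : Pr chevD4 4 (vec chevD4 4 19) (vec chevD4 4 17) where
  ra := ⟨19, by decide +kernel, rfl⟩
  rb := ⟨17, by decide +kernel, rfl⟩
  rs := by unfold Rt; decide +kernel
  nd := by unfold Rt; decide +kernel
  n1 := by unfold Rt; decide +kernel
  n2 := by unfold Rt; decide +kernel

theorem pr1620 : Pr chevD4 4 (vec chevD4 4 16) (vec chevD4 4 20) where
  ra := ⟨16, by decide +kernel, rfl⟩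
  rb := ⟨20, by decide +kernel, rfl⟩
  rs := by unfold Rt; decide +kernel
  nd := by unfold Rt; decide +kernel
  n1 := by unfold Rt; decide +kernel
  n2 := by unfold Rt; decide +kernel

theorem pr1521 : Pr chevD4 4 (vec chevD4 4 15) (vec chevD4 4 21) where
  ra := ⟨15, by decide +kernel, rfl⟩
  rb := ⟨21, by decide +kernel, rfl⟩
  rs := by unfold Rt; decide +kernel
  nd := by unfold Rt; decide +kernel
  n1 := by unfold Rt; decide +kernel
  n2 := by unfold Rt; decide +kernel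

theorem pr1422 : Pr chevD4 4 (vec chevD4 4 14) (vec chevD4 4 22) where
  ra := ⟨14, by decide +kernel, rfl⟩
  rb := ⟨22, by decide +kernel, rfl⟩
  rs := by unfold Rt; decide +kernel
  nd := by unfold Rt; decide +kernel
  n1 := by unfold Rt; decide +kernel
  n2 := by unfold Rt; decide +kernel

theorem sum1917 : vec chevD4 4 19 + vec chevD4 4 17 = vec chevD4 4 23 := by decide +kernel
theorem sum1620 : vec chevD4 4 16 + vec chevD4 4 20 = vec chevD4 4 23 := by decide +kernel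
theorem sum1521 : vec chevD4 4 15 + vec chevD4 4 21 = vec chevD4 4 23 := by decide +kernel
theorem sum1422 : vec chevD4 4 14 + vec chevD4 4 22 = vec chevD4 4 23 := by decide +kernel

/-- the commutator, with three signs -/
theorem comm_AB' : ∃ c₁ c₂ c₃ : k, c₁ * c₁ = 1 ∧
    ∀ x y z u v w : k, ⁅AA x y z, BB u v w⁆ = X4 23 (c₁ * (x * v) + c₂ * (y * w) + c₃ * (z * u)) := by
  obtain ⟨c₁, h1⟩ : ∃ c : k, c = (NN chevD4 4 (vec chevD4 4 19) (vec chevD4 4 17) : k) := ⟨_, rfl⟩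
  obtain ⟨c₂, h2⟩ : ∃ c : k, c = (NN chevD4 4 (vec chevD4 4 16) (vec chevD4 4 20) : k) := ⟨_, rfl⟩
  obtain ⟨c₃, h3⟩ : ∃ c : k, c = (NN chevD4 4 (vec chevD4 4 15) (vec chevD4 4 21) : k) := ⟨_, rfl⟩
  refine ⟨c₁, c₂, c₃, ?_, fun x y z u v w => ?_⟩
  · have h4 := congrArg (Int.cast : ℤ → k) (NN_sq hp4 pr1917)
    rw [Int.cast_mul, Int.cast_one] at h4
    rw [h1, h4]
  have e1 : ⁅X4 19 x, X4 17 v⁆ = X4 23 (c₁ * (x * v)) := by
    unfold X4
    rw [xc_br hp4 pr1917, sum1917, h1]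
  have e2 : ⁅X4 16 y, X4 20 w⁆ = X4 23 (c₂ * (y * w)) := by
    unfold X4
    rw [xc_br hp4 pr1620, sum1620, h2]
  have e3 : ⁅X4 15 z, X4 21 u⁆ = X4 23 (c₃ * (z * u)) := by
    unfold X4
    rw [xc_br hp4 pr1521, sum1521, h3]
  have eB : BB u v w = X4 17 v * X4 20 w * X4 21 u := by
    unfold BB
    have q1 : X4 21 u * X4 17 v = X4 17 v * X4 21 u := cm4 (by decide +kernel) _ _
    have q2 : X4 21 u * X4 20 w = X4 20 w * X4 21 u := cm4 (by decide +kernel) _ _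
    rw [q1, mul_assoc, q2, ← mul_assoc]
  rw [eB]
  unfold AA
  have h := com3 (P₁ := X4 19 x) (P₂ := X4 16 y) (P₃ := X4 15 z) (Q₁ := X4 17 v) (Q₂ := X4 20 w) (Q₃ := X4 21 u)
    (cm4 (by decide +kernel) _ _) (cm4 (by decide +kernel) _ _) (cm4 (by decide +kernel) _ _)
    (cm4 (by decide +kernel) _ _) (cm4 (by decide +kernel) _ _) (cm4 (by decide +kernel) _ _) e1 e2 e3
    (by rw [← X4_add]; exact cm4 (by decide +kernel) _ _) (cm4 (by decide +kernel) _ _)
    (cm4 (by decide +kernel) _ _) (cm4 (by decide +kernel) _ _) (cm4 (by decide +kernel) _ _)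
  rw [h, ← X4_add, ← X4_add]
  congr 1
  ring

/-- **The commutator.** -/
theorem comm_AB : ∃ c : k, c * c = 1 ∧
    ∀ x y z u v w : k, ⁅AA x y z, BB u v w⁆ = X4 23 (c * (x * v + y * w + z * u)) := by
  obtain ⟨c₁, c₂, c₃, h1, h⟩ := comm_AB' (k := k)
  have key : ∀ x y z u v w : k, c₁ * (x * v) + c₂ * (y * w) + c₃ * (z * u) =
      c₁ * (z * u) + c₂ * (x * v) + c₃ * (y * w) := by
    intro x y z u v w
    have h2 := congrArg (gr (L := k) hD4 symmD4a) (h x y z u v w)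
    rw [map_commutatorElement, gr_AA, gr_BB, gr23, h] at h2
    have h3 := X4_inj (by norm_num) h2
    rw [← h3]
    ring
  have k1 := key 1 0 0 0 1 0
  have k2 := key 0 1 0 0 0 1
  simp only [mul_one, mul_zero, add_zero, zero_add] at k1 k2
  refine ⟨c₁, h1, fun x y z u v w => ?_⟩
  rw [h, ← k2, ← k1]
  congr 1
  ring

/-- `x_23` commutes with everything here -/
theorem c23_AA (t x y z : k) : AA x y z * X4 23 t = X4 23 t * AA x y z := by
  unfold AA
  have e1 : X4 15 z * X4 23 t = X4 23 t * X4 15 z := cm4 (by decide +kernel) _ _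
  have e2 : X4 16 y * X4 23 t = X4 23 t * X4 16 y := cm4 (by decide +kernel) _ _
  have e3 : X4 19 x * X4 23 t = X4 23 t * X4 19 x := cm4 (by decide +kernel) _ _
  rw [mul_assoc, e1, ← mul_assoc, mul_assoc (X4 19 x), e2, ← mul_assoc, e3, mul_assoc, mul_assoc, ← mul_assoc (X4 19 x)]

theorem c23_BB (t x y z : k) : BB x y z * X4 23 t = X4 23 t * BB x y z := by
  unfold BB
  have e1 : X4 20 z * X4 23 t = X4 23 t * X4 20 z := cm4 (by decide +kernel) _ _
  have e2 : X4 17 y * X4 23 t = X4 23 t * X4 17 y := cm4 (by decide +kernel) _ _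
  have e3 : X4 21 x * X4 23 t = X4 23 t * X4 21 x := cm4 (by decide +kernel) _ _
  rw [mul_assoc, e1, ← mul_assoc, mul_assoc (X4 21 x), e2, ← mul_assoc, e3, mul_assoc, mul_assoc, ← mul_assoc (X4 21 x)]

/-- `x_23` is a commutator of `x_14` and `x_22` -/
theorem br1422 : ∃ c : k, c * c = 1 ∧ ∀ t u : k, ⁅X4 14 t, X4 22 u⁆ = X4 23 (c * (t * u)) := by
  refine ⟨(NN chevD4 4 (vec chevD4 4 14) (vec chevD4 4 22) : k), ?_, fun t u => ?_⟩
  · have h4 := congrArg (Int.cast : ℤ → k) (NN_sq hp4 pr1422)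
    rwa [Int.cast_mul, Int.cast_one] at h4
  · unfold X4
    rw [xc_br hp4 pr1422, sum1422]

theorem X4_ne_one {s : ℕ} (hs : s < 24) {t : k} (ht : t ≠ 0) : X4 s t ≠ 1 := by
  intro h
  rw [← X4_zero s] at h
  exact ht (X4_inj hs h)

end els

end Cfsg.Agent.H164.TD
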